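import Groth.Agent.H8Props.WeilRes.MorS
import Groth.Prelude.Def_WeilRes

/-!
# Weil restrictions out of schemes of relative morphisms
-/

set_option autoImplicit false
set_option linter.style.haveILetI false
set_option backward.isDefEq.respectTransparency false

universe u

open CategoryTheory CategoryTheory.Limits AlgebraicGeometry Opposite

namespace Groth.Agent.H26WeilRes

variable {S S' : Scheme.{u}} (f : S' ⟶ S) (X' : Over S')

/-- The Weil restriction is cut out of the scheme of relative morphisms by the condition to be over the source. -/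
theorem exists_isWeilRes_of_isRepresentable [IsFinite f] [Flat f] [LocallyOfFinitePresentation f]
    (h : (Flatn.morS f (X'.hom ≫ f)).IsRepresentable) :
    ∃ (R : Over S) (q : Red.bc f R ⟶ X'), WeilRes.IsWeilRes f X' R q := by
  obtain ⟨M, -, ⟨EM⟩⟩ := H8Props.WeilRes.exists_isAffineHom_representableBy f f
  let W : Over S := (Flatn.morS f (X'.hom ≫ f)).reprX
  let EW : (Flatn.morS f (X'.hom ≫ f)).RepresentableBy W := (Flatn.morS f (X'.hom ≫ f)).representableBy
  let L : Over S ⥤ Over S := Over.pullback f ⋙ Over.map f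
  let a : Over.mk (X'.hom ≫ f) ⟶ Over.mk f := Over.homMk X'.hom rfl
  let pr : ∀ T : Over S, L.obj T ⟶ Over.mk f := fun T => Over.homMk (pullback.snd T.hom f) rfl
  have hpr : ∀ {T T' : Over S} (t : T' ⟶ T), L.map t ≫ pr T = pr T' := fun {T T'} t =>
    Over.OverMorphism.ext (pullback.lift_snd _ _ _)
  let Θ : ∀ T : Over S, (T ⟶ W) → (L.obj T ⟶ Over.mk (X'.hom ≫ f)) := fun T k => EW.homEquiv k
  let Φ : ∀ T : Over S, (T ⟶ M) → (L.obj T ⟶ Over.mk f) := fun T k => EM.homEquiv k
  have hΘ : ∀ {T T' : Over S} (t : T' ⟶ T) (k : T ⟶ W), Θ T' (t ≫ k) = L.map t ≫ Θ T k := fun {T T'} t k =>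
    EW.homEquiv_comp t k
  have hΦ : ∀ {T T' : Over S} (t : T' ⟶ T) (k : T ⟶ M), Φ T' (t ≫ k) = L.map t ≫ Φ T k := fun {T T'} t k =>
    EM.homEquiv_comp t k
  let I : Over S := Over.mk (𝟙 S)
  let bang : ∀ T : Over S, T ⟶ I := fun T => Over.homMk T.hom (Category.comp_id _)
  let e : I ⟶ M := EM.homEquiv.symm (pr I : (Flatn.morS f f).obj (op I))
  have he : Φ I e = pr I := EM.homEquiv.apply_symm_apply _
  let π : W ⟶ M := EM.homEquiv.symm (Θ W (𝟙 W) ≫ a : (Flatn.morS f f).obj (op W))
  have hπ : Φ W π = Θ W (𝟙 W) ≫ a := EM.homEquiv.apply_symm_apply _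
  have hπT : ∀ {T : Over S} (k : T ⟶ W), Φ T (k ≫ π) = Θ T k ≫ a := fun {T} k => by
    rw [hΦ, hπ, ← Category.assoc, ← hΘ, Category.comp_id]
  have heT : ∀ T : Over S, Φ T (bang T ≫ e) = pr T := fun T => by rw [hΦ, he, hpr]
  let R : Over S := pullback π e
  let u : L.obj R ⟶ Over.mk (X'.hom ≫ f) := Θ R (pullback.fst π e)
  have hu : u ≫ a = pr R := by
    rw [← hπT, pullback.condition, show pullback.snd π e = bang R from Over.OverMorphism.ext (by
      simpa [bang, I] using Over.w (pullback.snd π e))]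
    exact heT R
  let q : Red.bc f R ⟶ X' := Over.homMk u.left (congrArg (fun m : _ ⟶ Over.mk f => m.left) hu)
  refine ⟨R, q, fun T => ⟨fun k k' hk => ?_, fun b => ?_⟩⟩
  · have h1 : Θ T (k ≫ pullback.fst π e) = Θ T (k' ≫ pullback.fst π e) := by
      rw [hΘ, hΘ]
      exact Over.OverMorphism.ext (congrArg (fun m : _ ⟶ X' => m.left) hk)
    refine pullback.hom_ext (EW.homEquiv.injective h1) (Over.OverMorphism.ext ?_)
    exact ((Category.comp_id _).symm.trans (Over.w (k ≫ pullback.snd π e))).trans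
      ((Category.comp_id _).symm.trans (Over.w (k' ≫ pullback.snd π e))).symm
  · let b' : L.obj T ⟶ Over.mk (X'.hom ≫ f) := Over.homMk b.left (by
      show b.left ≫ X'.hom ≫ f = pullback.snd T.hom f ≫ f
      rw [← Category.assoc, Over.w b]
      rfl)
    let k₀ : T ⟶ W := EW.homEquiv.symm (b' : (Flatn.morS f (X'.hom ≫ f)).obj (op T))
    have hk₀ : Θ T k₀ = b' := EW.homEquiv.apply_symm_apply _
    have hc : k₀ ≫ π = bang T ≫ e := EM.homEquiv.injective <| show Φ T _ = Φ T _ by
      rw [hπT, hk₀, heT]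
      exact Over.OverMorphism.ext (Over.w b)
    refine ⟨pullback.lift k₀ (bang T) hc, Over.OverMorphism.ext ?_⟩
    have h2 : L.map (pullback.lift k₀ (bang T) hc) ≫ u = b' := by
      rw [← hΘ, pullback.lift_fst, hk₀]
    exact congrArg (fun m : _ ⟶ Over.mk (X'.hom ≫ f) => m.left) h2

end Groth.Agent.H26WeilRes
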